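import Groth.Agent.Lib.TorAscH7.Basic
import Groth.Agent.S1997
import Mathlib.RingTheory.Valuation.LocalSubring
import Mathlib.RingTheory.Localization.BaseChange
import Mathlib.RingTheory.Flat.TorsionFree

/-! Weakly étale algebras over normal domains are integrally closed in their generic fibre. -/

set_option autoImplicit false

universe u

open CategoryTheory TensorProduct

namespace Groth.Agent.NormWEtH7

variable {A K B : Type u} [CommRing A] [Field K] [Algebra A K] [CommRing B] [Algebra A B]

/-- The image of `B ⊗ M` in `B ⊗ K`. -/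
noncomputable def part (B : Type u) [CommRing B] [Algebra A B] (M : Submodule A K) : Submodule A (B ⊗[A] K) :=
  LinearMap.range (M.subtype.lTensor B)

theorem part_mono {M N : Submodule A K} (h : M ≤ N) : part B M ≤ part B N := by
  rintro _ ⟨z, rfl⟩
  refine ⟨(Submodule.inclusion h).lTensor B z, ?_⟩
  rw [← LinearMap.comp_apply, ← LinearMap.lTensor_comp]
  rfl

theorem mem_part_inf [Module.Flat A B] {M N : Submodule A K} {z : B ⊗[A] K} (hM : z ∈ part B M)
    (hN : z ∈ part B N) : z ∈ part B (M ⊓ N) := by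
  have hex : Function.Exact (M ⊓ N).subtype (M.mkQ.prod N.mkQ) := by
    rw [LinearMap.exact_iff, LinearMap.ker_prod, Submodule.ker_mkQ, Submodule.ker_mkQ, Submodule.range_subtype]
  refine (Module.Flat.lTensor_exact B hex z).1 ?_
  apply (TensorProduct.prodRight A A B (K ⧸ M) (K ⧸ N)).injective
  have e : ∀ y, TensorProduct.prodRight A A B (K ⧸ M) (K ⧸ N) ((M.mkQ.prod N.mkQ).lTensor B y) =
      (M.mkQ.lTensor B y, N.mkQ.lTensor B y) := fun y => by
    induction y with
    | zero => simp only [map_zero]; rfl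
    | tmul b k => rfl
    | add a c ha hc => simp only [map_add, ha, hc]; rfl
  rw [e, map_zero]
  refine Prod.ext ?_ ?_
  · obtain ⟨w, rfl⟩ := hM
    show M.mkQ.lTensor B (M.subtype.lTensor B w) = 0
    rw [← LinearMap.comp_apply, ← LinearMap.lTensor_comp,
      (LinearMap.exact_subtype_mkQ M).linearMap_comp_eq_zero, LinearMap.lTensor_zero, LinearMap.zero_apply]
  · obtain ⟨w, rfl⟩ := hN
    show N.mkQ.lTensor B (N.subtype.lTensor B w) = 0
    rw [← LinearMap.comp_apply, ← LinearMap.lTensor_comp,
      (LinearMap.exact_subtype_mkQ N).linearMap_comp_eq_zero, LinearMap.lTensor_zero, LinearMap.zero_apply]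

theorem exists_of_mem_part_sup {c : Set (Submodule A K)} (hne : c.Nonempty) (hd : DirectedOn (· ≤ ·) c)
    {z : B ⊗[A] K} (hz : z ∈ part B (sSup c)) : ∃ M ∈ c, z ∈ part B M := by
  obtain ⟨w, rfl⟩ := hz
  induction w with
  | zero => obtain ⟨M, hM⟩ := hne; exact ⟨M, hM, by rw [map_zero]; exact Submodule.zero_mem _⟩
  | tmul b m =>
    obtain ⟨M, hM, hmM⟩ := (Submodule.mem_sSup_of_directed hne hd).1 m.2
    exact ⟨M, hM, ⟨b ⊗ₜ ⟨m, hmM⟩, rfl⟩⟩
  | add x y hx hy =>
    obtain ⟨M, hM, hxM⟩ := hx
    obtain ⟨N, hN, hyN⟩ := hy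
    obtain ⟨P, hP, hMP, hNP⟩ := hd M hM N hN
    exact ⟨P, hP, by rw [map_add]; exact Submodule.add_mem _ (part_mono hMP hxM) (part_mono hNP hyN)⟩

theorem flat_ideal_of_torDim {C : Type u} [CommRing C]
    (h : ∀ (N : Type u) [AddCommGroup N] [Module C N], DRing.HasTorDimLE C 1 N) (I : Ideal C) : Module.Flat C I :=
  (TorBal.flat_iff_hasTorDimLE_zero I).1 ((TorAscH7.hasTorDimLE_succ_iff I.subtype I.injective_subtype I.mkQ
    (LinearMap.exact_subtype_mkQ I) I.mkQ_surjective 0).1 (h _))

theorem torDim_valuationRing (V : Type u) [CommRing V] [IsDomain V] [ValuationRing V] (M : Type u)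
    [AddCommGroup M] [Module V M] : DRing.HasTorDimLE V 1 M := by
  let p : (M →₀ V) →ₗ[V] M := Finsupp.linearCombination V id
  let N : Submodule V (M →₀ V) := LinearMap.ker p
  refine (TorAscH7.hasTorDimLE_succ_iff (K := N) (F := M →₀ V) N.subtype N.injective_subtype p
    (LinearMap.exact_subtype_ker_map p) (Finsupp.linearCombination_id_surjective V M) 0).2 ?_
  refine (TorBal.flat_iff_hasTorDimLE_zero _).2 ?_
  refine (Module.Flat.flat_iff_torsion_eq_bot_of_isBezout (R := V) (M := N)).2 (eq_bot_iff.2 ?_)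
  rintro ⟨x, hx⟩ ⟨⟨a, ha⟩, hax⟩
  have h1 : a • x = 0 := congrArg Subtype.val hax
  rw [Submodule.mem_bot]
  exact Subtype.ext ((smul_eq_zero.1 h1).resolve_left (nonZeroDivisors.ne_zero ha))

/-- An algebra weakly étale over a valuation ring is integrally closed in the generic fibre. -/
theorem mem_part_of_valuationSubring [Algebra.WeaklyEtale A B] [Module.Flat A B] (V : ValuationSubring K)
    (hAV : ∀ a, algebraMap A K a ∈ V) (x : B ⊗[A] K) (hx : IsIntegral B x) :
    x ∈ part B ({ V.toSubring with algebraMap_mem' := hAV } : Subalgebra A K).toSubmodule := by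
  letI : Algebra A V := ((algebraMap A K).codRestrict V.toSubring hAV).toAlgebra
  haveI : IsScalarTower A V K := IsScalarTower.of_algebraMap_eq fun _ => rfl
  haveI : IsFractionRing V K := inferInstance
  let C₁ := V ⊗[A] B
  let L := K ⊗[V] C₁
  haveI : Algebra.WeaklyEtale V C₁ := inferInstance
  let j : C₁ →ₐ[V] L := Algebra.TensorProduct.includeRight
  letI : Algebra C₁ L := j.toRingHom.toAlgebra
  haveI : IsLocalization (Algebra.algebraMapSubmonoid C₁ (nonZeroDivisors V)) L :=
    IsLocalization.tensorRight (S := C₁) K (nonZeroDivisors V)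
  haveI : Module.Flat C₁ L := IsLocalization.flat L (Algebra.algebraMapSubmonoid C₁ (nonZeroDivisors V))
  let e : L ≃ₐ[V] K ⊗[A] B := Algebra.TensorProduct.cancelBaseChange A V V K B
  let i : C₁ →ₐ[A] K ⊗[A] B := Algebra.TensorProduct.map (IsScalarTower.toAlgHom A V K) (AlgHom.id A B)
  have he : ∀ c : C₁, e (algebraMap C₁ L c) = i c := fun c => by
    show e ((1 : K) ⊗ₜ[V] c) = i c
    induction c using TensorProduct.induction_on with
    | zero => rw [tmul_zero, map_zero, map_zero]
    | add a b ha hb => rw [tmul_add, map_add, map_add, ha, hb]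
    | tmul v b =>
      refine (Algebra.TensorProduct.cancelBaseChange_tmul A V V K B 1 v b).trans ?_
      rw [Algebra.smul_def, mul_one, Algebra.TensorProduct.map_tmul]
      rfl
  have hinj : Function.Injective (algebraMap C₁ L) := fun a b h => by
    have h1 : i a = i b := by rw [← he, ← he, h]
    exact Module.Flat.rTensor_preserves_injective_linearMap (M := B) (IsScalarTower.toAlgHom A V K).toLinearMap
      (Subtype.val_injective : Function.Injective (fun v : V => (v : K))) h1
  haveI : Algebra.IsEpi C₁ L := (Algebra.isEpi_iff_forall_one_tmul_eq C₁ L).2 fun l => by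
    have : (Algebra.TensorProduct.includeRight : L →ₐ[C₁] L ⊗[C₁] L).toRingHom =
        (Algebra.TensorProduct.includeLeftRingHom : L →+* L ⊗[C₁] L) :=
      IsLocalization.ringHom_ext (Algebra.algebraMapSubmonoid C₁ (nonZeroDivisors V)) (RingHom.ext fun c => by
        show (1 : L) ⊗ₜ[C₁] algebraMap C₁ L c = algebraMap C₁ L c ⊗ₜ[C₁] (1 : L)
        exact (Algebra.TensorProduct.includeRight : L →ₐ[C₁] L ⊗[C₁] L).commutes c)
    exact RingHom.congr_fun this l
  haveI : IsIntegrallyClosedIn C₁ L := S1997.result C₁ L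
    (flat_ideal_of_torDim fun N => TorAscH7.ascends_all V C₁ 1 (fun M => torDim_valuationRing V M) N) hinj
    (CommRingCat.epi_iff_epi.mpr inferInstance)
  -- transport the integral element
  let σ : B ⊗[A] K ≃ₐ[A] K ⊗[A] B := Algebra.TensorProduct.comm A B K
  let x' : L := e.symm (σ x)
  have hx' : IsIntegral C₁ x' := by
    let ψ : B ⊗[A] K →+* L := e.symm.toRingEquiv.toRingHom.comp σ.toRingEquiv.toRingHom
    refine IsIntegral.map_of_comp_eq (Algebra.TensorProduct.includeRight : B →ₐ[A] C₁).toRingHom ψ ?_ hx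
    refine RingHom.ext fun b => ?_
    show algebraMap C₁ L ((1 : V) ⊗ₜ[A] b) = e.symm (σ (b ⊗ₜ[A] (1 : K)))
    apply e.injective
    rw [he, e.apply_symm_apply, Algebra.TensorProduct.comm_tmul, Algebra.TensorProduct.map_tmul, map_one]
    rfl
  obtain ⟨c, hc⟩ := IsIntegrallyClosedIn.isIntegral_iff.1 hx'
  have h2 : σ x = i c := by rw [← he, hc, e.apply_symm_apply]
  have hxc : x = σ.symm (i c) := by rw [← h2, σ.symm_apply_apply]
  rw [hxc]
  clear h2 hxc hc
  induction c using TensorProduct.induction_on with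
  | zero => rw [map_zero, map_zero]; exact Submodule.zero_mem _
  | add a b ha hb => rw [map_add, map_add]; exact Submodule.add_mem _ ha hb
  | tmul v b =>
    rw [Algebra.TensorProduct.map_tmul, Algebra.TensorProduct.comm_symm_tmul]
    exact ⟨b ⊗ₜ ⟨(v : K), v.2⟩, rfl⟩

/-- Subalgebras closed under integral elements. -/
def Closed (W : Subalgebra A K) : Prop := ∀ z : K, IsIntegral W z → z ∈ W

theorem mem_of_closed {W : Subalgebra A K} (hW : Closed W) {z : K}
    (h : ∀ V : ValuationSubring K, (∀ w ∈ W, w ∈ V) → z ∈ V) : z ∈ W := by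
  by_contra hz
  haveI : IsIntegrallyClosedIn W.toSubring K := Subring.isIntegrallyClosedIn_iff.2 hW
  obtain ⟨V, hV, hzV⟩ := Subring.exists_le_valuationSubring_of_isIntegrallyClosedIn (R := W.toSubring) hz
  exact hzV (h V hV)

theorem integrallyClosedIn [IsDomain A] [IsIntegrallyClosed A] [IsFractionRing A K] [Algebra.WeaklyEtale A B] :
    IsIntegrallyClosedIn B (B ⊗[A] K) := by
  classical
  haveI : Module.Flat A B := Algebra.WeaklyEtale.flat
  refine isIntegrallyClosedIn_iff.2 ⟨?_, fun {x} hx => ?_⟩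
  · intro a b h
    apply (TensorProduct.rid A B).symm.injective
    exact Module.Flat.lTensor_preserves_injective_linearMap (M := B) (Algebra.linearMap A K)
      (IsFractionRing.injective A K) (by simpa using h)
  suffices hbot : x ∈ part B (⊥ : Subalgebra A K).toSubmodule by
    obtain ⟨w, rfl⟩ := hbot
    clear hx
    induction w with
    | zero => exact ⟨0, by rw [map_zero, map_zero]⟩
    | add a b ha hb =>
      obtain ⟨a', ha⟩ := ha
      obtain ⟨b', hb⟩ := hb
      exact ⟨a' + b', by rw [map_add, map_add, ha, hb]⟩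
    | tmul b m =>
      obtain ⟨a, ha⟩ := Algebra.mem_bot.1 m.2
      refine ⟨a • b, ?_⟩
      show (a • b) ⊗ₜ[A] (1 : K) = b ⊗ₜ[A] (m : K)
      rw [← ha, TensorProduct.smul_tmul, Algebra.algebraMap_eq_smul_one]
  by_contra hbad
  have hbc : Closed (⊥ : Subalgebra A K) := fun z hz => by
    haveI : Algebra.IsIntegral A (⊥ : Subalgebra A K) := ⟨fun w => by
      obtain ⟨a, ha⟩ := Algebra.mem_bot.1 w.2
      rw [show w = algebraMap A _ a from Subtype.ext ha.symm]
      exact isIntegral_algebraMap⟩
    obtain ⟨a, rfl⟩ := (IsIntegrallyClosed.isIntegral_iff (R := A) (K := K)).1 (isIntegral_trans z hz)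
    exact Subalgebra.algebraMap_mem _ a
  obtain ⟨W, -, hW⟩ := zorn_le_nonempty₀ {W : Subalgebra A K | Closed W ∧ x ∉ part B W.toSubmodule}
    (fun c hc hchain y hy => by
      let U := sSup c
      have hd : DirectedOn (· ≤ ·) c := hchain.directedOn
      have hU : (U : Set K) = ⋃ W ∈ c, (W : Set K) := by
        refine subset_antisymm (fun z hz => ?_) (Set.iUnion₂_subset fun W hW => SetLike.coe_subset_coe.2 (le_sSup hW))
        let S : Subalgebra A K :=
          { carrier := ⋃ W ∈ c, (W : Set K)
            mul_mem' := fun {a b} ha hb => by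
              simp only [Set.mem_iUnion, SetLike.mem_coe] at ha hb ⊢
              obtain ⟨W₁, h₁, ha⟩ := ha
              obtain ⟨W₂, h₂, hb⟩ := hb
              obtain ⟨W₃, h₃, h13, h23⟩ := hd W₁ h₁ W₂ h₂
              exact ⟨W₃, h₃, W₃.mul_mem (h13 ha) (h23 hb)⟩
            add_mem' := fun {a b} ha hb => by
              simp only [Set.mem_iUnion, SetLike.mem_coe] at ha hb ⊢
              obtain ⟨W₁, h₁, ha⟩ := ha
              obtain ⟨W₂, h₂, hb⟩ := hb
              obtain ⟨W₃, h₃, h13, h23⟩ := hd W₁ h₁ W₂ h₂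
              exact ⟨W₃, h₃, W₃.add_mem (h13 ha) (h23 hb)⟩
            algebraMap_mem' := fun a => Set.mem_biUnion hy (y.algebraMap_mem a) }
        exact (sSup_le fun W hW z hz => Set.mem_biUnion hW hz : U ≤ S) hz
      refine ⟨U, ⟨fun z hz => ?_, fun hxU => ?_⟩, fun W hW => le_sSup hW⟩
      · obtain ⟨p, hp, hpz⟩ := hz
        have hs : ∀ s : Finset ℕ, ∃ W ∈ c, ∀ k ∈ s, (p.coeff k : K) ∈ W := by
          intro s
          induction s using Finset.induction_on with
          | empty => exact ⟨y, hy, by simp⟩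
          | insert k s hk ih =>
            obtain ⟨W₁, h₁, hW₁⟩ := ih
            have hm : (p.coeff k : K) ∈ (U : Set K) := (p.coeff k).2
            simp only [hU, Set.mem_iUnion, SetLike.mem_coe] at hm
            obtain ⟨W₂, h₂, hkW⟩ := hm
            obtain ⟨W₃, h₃, h13, h23⟩ := hd W₁ h₁ W₂ h₂
            exact ⟨W₃, h₃, fun l hl => (Finset.mem_insert.1 hl).elim (fun h => h ▸ h23 hkW) fun h => h13 (hW₁ l h)⟩
        obtain ⟨W, hWc, hWp⟩ := hs p.support
        have hlift : p.map (algebraMap U K) ∈ Polynomial.lifts (algebraMap W K) := by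
          rw [Polynomial.lifts_iff_coeff_lifts]
          intro k
          rw [Polynomial.coeff_map]
          by_cases hk : k ∈ p.support
          · exact ⟨⟨_, hWp k hk⟩, rfl⟩
          · rw [Polynomial.notMem_support_iff.1 hk, map_zero]; exact ⟨0, map_zero _⟩
        obtain ⟨q, hq, -, hqm⟩ := Polynomial.lifts_and_degree_eq_and_monic hlift (hp.map _)
        refine le_sSup hWc ((hc hWc).1 z ⟨q, hqm, ?_⟩)
        rw [← Polynomial.eval_map, hq, Polynomial.eval_map]
        exact hpz
      · obtain ⟨M, ⟨W, hWc, rfl⟩, hxM⟩ := exists_of_mem_part_sup (B := B)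
          (c := Subalgebra.toSubmodule '' c) (Set.Nonempty.image _ ⟨y, hy⟩)
          (hd.mono_comp fun _ _ h => h) (part_mono (fun z hz => by
            have hz' : z ∈ (U : Set K) := hz
            simp only [hU, Set.mem_iUnion, SetLike.mem_coe] at hz'
            obtain ⟨W, hW, hzW⟩ := hz'
            exact (le_sSup (Set.mem_image_of_mem Subalgebra.toSubmodule hW) :
              Subalgebra.toSubmodule W ≤ sSup (Subalgebra.toSubmodule '' c)) hzW) hxU)
        exact (hc hWc).2 hxM)
    ⊥ ⟨hbc, hbad⟩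
  obtain ⟨⟨hWc, hWx⟩, hmax⟩ := hW
  -- the maximal one is a valuation ring
  let ext : K → Subalgebra A K := fun t =>
    (integralClosure (Algebra.adjoin A ((W : Set K) ∪ {t})) K).restrictScalars A
  have hext : ∀ t, W ≤ ext t ∧ t ∈ ext t ∧ Closed (ext t) := fun t => by
    let S := Algebra.adjoin A ((W : Set K) ∪ {t})
    have hS : ∀ s ∈ S, s ∈ ext t := fun s hs =>
      (Subalgebra.algebraMap_mem (integralClosure S K) ⟨s, hs⟩)
    refine ⟨fun w hw => hS w (Algebra.subset_adjoin (Or.inl hw)), hS t (Algebra.subset_adjoin (Or.inr rfl)),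
      fun z hz => ?_⟩
    show z ∈ integralClosure S K
    exact isIntegral_trans (R := S) (A := integralClosure S K) z hz
  have hV : ∀ t : K, t ∈ W ∨ t⁻¹ ∈ W := by
    intro t
    by_contra h
    push Not at h
    have hgood : ∀ s, s ∉ W → x ∈ part B (ext s).toSubmodule := fun s hs => by
      by_contra hb
      exact hs (hmax ⟨(hext s).2.2, hb⟩ (hext s).1 (hext s).2.1)
    refine hWx (part_mono (fun z hz => mem_of_closed hWc fun V hWV => ?_)
      (mem_part_inf (hgood t h.1) (hgood t⁻¹ h.2)))
    obtain ⟨hz₁, hz₂⟩ := Submodule.mem_inf.1 hz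
    have key : ∀ s, s ∈ V → ∀ z, z ∈ ext s → z ∈ V := fun s hs z hz => by
      have hle : ∀ r ∈ Algebra.adjoin A ((W : Set K) ∪ {s}), r ∈ V.toSubring := fun r hr =>
        (Algebra.adjoin_le (S := ({ V.toSubring with algebraMap_mem' := fun a => hWV _ (W.algebraMap_mem a) } :
          Subalgebra A K)) (Set.union_subset hWV (Set.singleton_subset_iff.2 hs))) hr
      haveI : IsIntegrallyClosedIn V.toSubring K := inferInstanceAs (IsIntegrallyClosedIn V K)
      exact (Subring.integralClosure_subring_le_iff (S := Algebra.adjoin A ((W : Set K) ∪ {s}))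
        (T := V.toSubring)).2 hle hz
    rcases V.mem_or_inv_mem t with ht | ht
    · exact key t ht z hz₁
    · exact key t⁻¹ ht z hz₂
  let V : ValuationSubring K := { W.toSubring with mem_or_inv_mem' := hV }
  exact hWx (mem_part_of_valuationSubring V W.algebraMap_mem x hx)

end Groth.Agent.NormWEtH7
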